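import Cfsg.Agent.Lib.ThreeTranspositions.Basic
import Cfsg.Agent.S5344

/-!
Fischer's rank three theorem for a class of 3-transpositions with non-abelian simple derived group.

The proof is by modules: an invariant equivalence relation whose classes are uniform for commutation gives
a normal subgroup fixing every class, so it is trivial or universal.  Orbital closures of an orbital with
extremal number of common neighbours give such relations.
-/

set_option autoImplicit false

open Cfsg Cfsg.Agent.Lib.ThreeTranspositions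

namespace Cfsg.Agent.Lib.RankThree

set_option linter.unusedSectionVars false
set_option linter.unusedVariables false

variable {G : Type*} [Group G] {D : Set G}

/-- Two ordered pairs lie in one orbit under conjugation. -/
def Orb (u v x y : G) : Prop := ∃ g : G, g * u * g⁻¹ = x ∧ g * v * g⁻¹ = y

theorem Orb.refl (u v : G) : Orb u v u v := ⟨1, by simp, by simp⟩

theorem Orb.symm {u v x y : G} (h : Orb u v x y) : Orb x y u v := by
  obtain ⟨g, hx, hy⟩ := h
  exact ⟨g⁻¹, by rw [← hx]; simp [mul_assoc], by rw [← hy]; simp [mul_assoc]⟩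

theorem Orb.trans {u v x y p q : G} (h : Orb u v x y) (h' : Orb x y p q) : Orb u v p q := by
  obtain ⟨g, hx, hy⟩ := h
  obtain ⟨k, hp, hq⟩ := h'
  refine ⟨k * g, ?_, ?_⟩
  · rw [← hp, ← hx]; simp [mul_assoc]
  · rw [← hq, ← hy]; simp [mul_assoc]

theorem Orb.flip {u v x y : G} (h : Orb u v x y) : Orb v u y x := by
  obtain ⟨g, hx, hy⟩ := h; exact ⟨g, hy, hx⟩

theorem conj_commute_iff (g x y : G) : Commute (g * x * g⁻¹) (g * y * g⁻¹) ↔ Commute x y :=
  Commute.conj_iff g

theorem conj_left_inj {g x y : G} : g * x * g⁻¹ = g * y * g⁻¹ ↔ x = y := by simp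

theorem adj_conj (hD : IsClosedSet D) {e z : G} (he : e ∈ D) (hz : z ∈ D) (h : ¬ Commute e z) :
    ¬ Commute z (e * z * e⁻¹) := by
  rw [conj_eq hD.1 he]; exact third_not_commute_right hD he hz h

/-- A predicate closed under non-commutation holds on the whole class. -/
theorem all_of_adj_closed [Finite G] (hD : IsThreeTranspositionClass D) (P : G → Prop)
    (hP : ∀ x ∈ D, ∀ y ∈ D, P x → ¬ Commute x y → P y) {a : G} (ha : a ∈ D) (hPa : P a) :
    ∀ x ∈ D, P x := by
  have hD' := isClosedSet_of_class hD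
  intro x hx
  obtain ⟨g, rfl⟩ := class_exists_conj hD ha hx
  suffices ∀ g : G, P (g * a * g⁻¹) from this g
  intro g
  have hg : g ∈ Subgroup.closure D := hD.2.2 ▸ Subgroup.mem_top g
  have step : ∀ e ∈ D, ∀ g : G, P (g * a * g⁻¹) → P (e * g * a * (e * g)⁻¹) := by
    intro e he g h
    have hz := hD'.2 g a ha
    rw [show e * g * a * (e * g)⁻¹ = e * (g * a * g⁻¹) * e⁻¹ by group]
    by_cases hc : Commute e (g * a * g⁻¹)
    · rw [hc.eq, mul_inv_cancel_right]; exact h
    · exact hP _ hz _ (hD'.2 e _ hz) h (adj_conj hD' he hz hc)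
  clear hx
  induction hg using Subgroup.closure_induction_left with
  | one => simpa using hPa
  | mul_left e he y _ ih => exact step e he y ih
  | inv_mul_cancel e he y _ ih =>
    rw [inv_eq hD.1 he]; exact step e he y ih

/-- An invariant equivalence relation on `D` with uniform classes. -/
structure IsModule (D : Set G) (E : G → G → Prop) : Prop where
  refl : ∀ x, E x x
  symm : ∀ {x y}, E x y → E y x
  trans : ∀ {x y z}, E x y → E y z → E x z
  conj : ∀ (g : G) {x y}, E x y → E (g * x * g⁻¹) (g * y * g⁻¹)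
  uniform : ∀ x ∈ D, ∀ y ∈ D, ∀ w ∈ D, E x y → ¬ E x w → (Commute x w ↔ Commute y w)

/-- The elements fixing all classes of a relation. -/
def fixer (hD : IsClosedSet D) {E : G → G → Prop} (hE : IsModule D E) : Subgroup G where
  carrier := {g | ∀ d ∈ D, E d (g * d * g⁻¹)}
  one_mem' := fun d _ => by simpa using hE.refl d
  mul_mem' := by
    intro g k hg hk d hd
    have h1 := hE.trans (hk d hd) (hg _ (hD.2 k d hd))
    convert h1 using 1; group
  inv_mem' := by
    intro g hg d hd
    have h := hE.symm (hg _ (hD.2 g⁻¹ d hd))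
    convert h using 1; group

instance fixer_normal (hD : IsClosedSet D) {E : G → G → Prop} (hE : IsModule D E) :
    (fixer hD hE).Normal := by
  refine ⟨fun k hk g d hd => ?_⟩
  have h := hE.conj g (hk _ (hD.2 g⁻¹ d hd))
  convert h using 1 <;> group

theorem mul_mem_fixer (hD : IsClosedSet D) {E : G → G → Prop} (hE : IsModule D E) {b c : G}
    (hb : b ∈ D) (hc : c ∈ D) (h : E b c) : b * c ∈ fixer hD hE := by
  intro d hd
  rw [show b * c * d * (b * c)⁻¹ = b * (c * d * c⁻¹) * b⁻¹ by group]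
  by_cases hbd : E b d
  · have h1 := hE.conj c (hE.trans (hE.symm h) hbd)
    rw [mul_inv_cancel_right] at h1
    have h2 := hE.conj b h1
    have h3 := hE.conj b h
    rw [mul_inv_cancel_right] at h3
    exact hE.trans (hE.symm hbd) (hE.trans h3 h2)
  · have hu := hE.uniform b hb c hc d hd h hbd
    by_cases hcd : Commute b d
    · rw [(hu.1 hcd).eq, mul_inv_cancel_right, hcd.eq, mul_inv_cancel_right]
      exact hE.refl d
    · have hc' : ¬ Commute c d := fun h => hcd (hu.2 h)
      have h1 := hE.conj d (hE.symm h)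
      rw [conj_eq hD.1 hd, conj_eq hD.1 hd, braid hD.1 hd hc (fun h => hc' h.symm),
        braid hD.1 hd hb (fun h => hcd h.symm)] at h1
      have h2 := hE.conj b h1
      rw [conj_eq hD.1 hb, conj_eq hD.1 hb] at h2
      rw [conj_eq hD.1 hc, conj_eq hD.1 hb]
      have e : b * (b * d * b) * b = d := by
        rw [show b * (b * d * b) * b = (b * b) * d * (b * b) by group, mul_self hD.1 hb, one_mul, mul_one]
      rw [e] at h2
      exact hE.symm h2

variable [Finite G]

/-- A module relation which is not discrete is universal. -/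
theorem module_universal (hD : IsThreeTranspositionClass D) (hs : IsSimpleGroup (commutator G))
    {E : G → G → Prop} (hE : IsModule D E) {b c : G} (hb : b ∈ D) (hc : c ∈ D) (hne : b ≠ c)
    (h : E b c) : ∀ x ∈ D, ∀ y ∈ D, E x y := by
  have hD' := isClosedSet_of_class hD
  obtain ⟨g, hg⟩ := class_exists_conj hD hb hc
  have hbc : b * c ∈ commutator G := by
    have hcm := Subgroup.commutator_mem_commutator (Subgroup.mem_top b) (Subgroup.mem_top g)
    rw [← commutator_def, commutatorElement_def, inv_eq hD.1 hb] at hcm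
    convert hcm using 1
    rw [← hg]; group
  have hbc1 : b * c ≠ 1 := fun h1 =>
    hne ((eq_inv_of_mul_eq_one_left h1).trans (inv_eq hD.1 hc))
  have hmem : (⟨b * c, hbc⟩ : commutator G) ∈ (fixer hD' hE).subgroupOf (commutator G) :=
    mul_mem_fixer hD' hE hb hc h
  rcases hs.eq_bot_or_eq_top_of_normal ((fixer hD' hE).subgroupOf (commutator G)) inferInstance
    with hbot | htop
  · rw [hbot, Subgroup.mem_bot] at hmem
    exact absurd (congrArg Subtype.val hmem) hbc1
  have hle : commutator G ≤ fixer hD' hE := Subgroup.subgroupOf_eq_top.1 htop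
  intro x hx
  refine all_of_adj_closed hD (fun y => E x y) (fun y hy z hz hxy hyz => ?_) hx (hE.refl x)
  obtain ⟨k, hk⟩ := class_exists_conj hD hz hy
  have hzy : z * y ∈ commutator G := by
    have hcm := Subgroup.commutator_mem_commutator (Subgroup.mem_top z) (Subgroup.mem_top k)
    rw [← commutator_def, commutatorElement_def, inv_eq hD.1 hz] at hcm
    convert hcm using 1
    rw [← hk]; group
  -- `z * y` fixes the class of `y`
  have h1 := hle hzy y hy
  rw [show z * y * y * (z * y)⁻¹ = z * y * z by rw [mul_inv_rev, inv_eq hD.1 hz, inv_eq hD.1 hy,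
    show z * y * y * (y * z) = z * (y * y) * (y * z) by group, mul_self hD.1 hy]; group,
    braid hD.1 hz hy (fun h => hyz h.symm)] at h1
  have h2 := hE.conj y h1
  rw [conj_eq hD.1 hy, conj_eq hD.1 hy, mul_self hD.1 hy, one_mul,
    show y * (y * z * y) * y = (y * y) * z * (y * y) by group, mul_self hD.1 hy, one_mul, mul_one] at h2
  exact hE.trans hxy h2

/-- Every module relation that is not discrete is universal: the hypothesis of the orbit theorems.  It
holds when the derived group is simple (`module_universal`) and when the action is primitive. -/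
def ModulesTrivial (D : Set G) : Prop :=
  ∀ {E : G → G → Prop}, IsModule D E → ∀ {b c : G}, b ∈ D → c ∈ D → b ≠ c → E b c →
    ∀ x ∈ D, ∀ y ∈ D, E x y

/-- Members other than `x` commuting with `x`. -/
def comSet (D : Set G) (x : G) : Set G := {e | e ∈ D ∧ e ≠ x ∧ Commute x e}

/-- Members not commuting with `x`. -/
def adjSet (D : Set G) (x : G) : Set G := {e | e ∈ D ∧ ¬ Commute x e}

theorem comSet_image (hD : IsClosedSet D) (g x : G) :
    (fun y => g * y * g⁻¹) '' comSet D x = comSet D (g * x * g⁻¹) := by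
  ext e
  constructor
  · rintro ⟨y, ⟨hy, hyx, hc⟩, rfl⟩
    exact ⟨hD.2 g y hy, fun h => hyx (conj_left_inj.1 h), (conj_commute_iff g x y).2 hc⟩
  · rintro ⟨he, hex, hc⟩
    refine ⟨g⁻¹ * e * g⁻¹⁻¹, ⟨hD.2 _ e he, ?_, ?_⟩, by group⟩
    · intro h; apply hex; rw [← h]; group
    · rw [← conj_commute_iff g, show g * (g⁻¹ * e * g⁻¹⁻¹) * g⁻¹ = e by group]; exact hc

theorem adjSet_image (hD : IsClosedSet D) (g x : G) :
    (fun y => g * y * g⁻¹) '' adjSet D x = adjSet D (g * x * g⁻¹) := by
  ext e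
  constructor
  · rintro ⟨y, ⟨hy, hc⟩, rfl⟩
    exact ⟨hD.2 g y hy, fun h => hc ((conj_commute_iff g x y).1 h)⟩
  · rintro ⟨he, hc⟩
    refine ⟨g⁻¹ * e * g⁻¹⁻¹, ⟨hD.2 _ e he, ?_⟩, by group⟩
    rw [← conj_commute_iff g, show g * (g⁻¹ * e * g⁻¹⁻¹) * g⁻¹ = e by group]; exact hc

theorem conj_inj' (g : G) : Function.Injective (fun y : G => g * y * g⁻¹) :=
  fun _ _ h => conj_left_inj.1 h

theorem comSet_ncard (hD : IsThreeTranspositionClass D) {x y : G} (hx : x ∈ D) (hy : y ∈ D) :
    (comSet D x).ncard = (comSet D y).ncard := by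
  obtain ⟨g, rfl⟩ := class_exists_conj hD hx hy
  rw [← comSet_image (isClosedSet_of_class hD), Set.ncard_image_of_injective _ (conj_inj' g)]

theorem adjSet_ncard (hD : IsThreeTranspositionClass D) {x y : G} (hx : x ∈ D) (hy : y ∈ D) :
    (adjSet D x).ncard = (adjSet D y).ncard := by
  obtain ⟨g, rfl⟩ := class_exists_conj hD hx hy
  rw [← adjSet_image (isClosedSet_of_class hD), Set.ncard_image_of_injective _ (conj_inj' g)]

theorem eq_of_adjSet (hD : IsThreeTranspositionClass D) (hs : ModulesTrivial D)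
    (hD2 : ∃ a ∈ D, ∃ b ∈ D, a ≠ b) {x y : G} (hx : x ∈ D) (hy : y ∈ D)
    (h : adjSet D x = adjSet D y) : x = y := by
  have hD' := isClosedSet_of_class hD
  by_contra hne
  have hE : IsModule D (fun p q => adjSet D p = adjSet D q) := by
    refine ⟨fun _ => rfl, Eq.symm, Eq.trans, fun g p q h => ?_, fun p _ q _ w hw h _ => ?_⟩
    · rw [← adjSet_image hD', ← adjSet_image hD', h]
    · have := Set.ext_iff.1 h w
      simp only [adjSet, Set.mem_setOf_eq, hw, true_and] at this
      exact not_iff_not.1 this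
  obtain ⟨e, he, hne'⟩ := exists_not_commute hD hD2 hx
  have h' := Set.ext_iff.1 (hs hE hx hy hne h x hx e he) e
  exact (h'.1 ⟨he, hne'⟩).2 (Commute.refl e)

theorem eq_of_comSet (hD : IsThreeTranspositionClass D) (hs : ModulesTrivial D)
    (hw : ∀ a ∈ D, ∃ b ∈ D, b ≠ a ∧ Commute a b) {x y : G} (hx : x ∈ D) (hy : y ∈ D)
    (h : comSet D x = comSet D y) : x = y := by
  have hD' := isClosedSet_of_class hD
  by_contra hne
  have hE : IsModule D (fun p q => comSet D p = comSet D q) := by
    refine ⟨fun _ => rfl, Eq.symm, Eq.trans, fun g p q h => ?_, fun p _ q _ w hw h hpw => ?_⟩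
    · rw [← comSet_image hD', ← comSet_image hD', h]
    · have h1 : w ≠ p := fun e => hpw (by rw [e])
      have h2 : w ≠ q := fun e => hpw (by rw [e]; exact h)
      have := Set.ext_iff.1 h w
      simpa only [comSet, Set.mem_setOf_eq, hw, h1, h2, true_and, ne_eq, not_false_eq_true] using this
  obtain ⟨b, hb, hba, hab⟩ := hw x hx
  have h' := Set.ext_iff.1 (hs hE hx hy hne h x hx b hb) b
  exact (h'.1 ⟨hb, hba, hab⟩).2.1 rfl

/-- The pairs of the orbital of `(p, q)` generate a uniform relation, so it is universal on `D`. -/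
theorem eqvGen_module (hD : IsThreeTranspositionClass D) {R : G → G → Prop}
    (hR : ∀ (g : G) {x y}, R x y → R (g * x * g⁻¹) (g * y * g⁻¹)) (hRD : ∀ {x y}, R x y → x ∈ D ∧ y ∈ D)
    (hu : ∀ {x y}, R x y → ∀ w ∈ D, ¬ Relation.EqvGen R x w → (Commute x w ↔ Commute y w)) :
    IsModule D (Relation.EqvGen R) := by
  refine ⟨Relation.EqvGen.refl, fun h => h.symm _ _, fun h h' => h.trans _ _ _ h', ?_, ?_⟩
  · intro g x y h
    induction h with
    | rel x y h => exact .rel _ _ (hR g h)
    | refl x => exact .refl _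
    | symm x y _ ih => exact ih.symm _ _
    | trans x y z _ _ ih ih' => exact ih.trans _ _ _ ih'
  · suffices ∀ {x y}, Relation.EqvGen R x y → ∀ w ∈ D, ¬ Relation.EqvGen R x w →
        (Commute x w ↔ Commute y w) from fun x _ y _ w hw h h' => this h w hw h'
    intro x y h
    induction h with
    | rel x y h => exact hu h
    | refl x => exact fun _ _ _ => Iff.rfl
    | symm x y h ih => exact fun w hw h' => (ih w hw fun h'' => h' ((h.symm _ _).trans _ _ _ h'')).symm
    | trans x y z h _ ih ih' =>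
      exact fun w hw h' => (ih w hw h').trans (ih' w hw fun h'' => h' (h.trans _ _ _ h''))

/-- An `R`-invariant predicate separates the generated classes. -/
theorem eqvGen_iff {R : G → G → Prop} (P : G → Prop) (h : ∀ x y, R x y → (P x ↔ P y)) {x y : G}
    (hxy : Relation.EqvGen R x y) : P x ↔ P y := by
  induction hxy with
  | rel x y r => exact h x y r
  | refl x => exact Iff.rfl
  | symm x y _ ih => exact ih.symm
  | trans x y z _ _ ih ih' => exact ih.trans ih'

theorem orb_swap_adj (hD : IsClosedSet D) {x y : G} (hx : x ∈ D) (hy : y ∈ D) (h : ¬ Commute x y) :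
    Orb x y y x := by
  have hb := braid hD.1 hx hy h
  refine ⟨x * y * x, ?_, ?_⟩ <;> simp only [mul_inv_rev, inv_eq hD.1 hx, inv_eq hD.1 hy]
  · calc x * y * x * x * (x * (y * x)) = x * y * (x * x) * (x * y * x) := by group
      _ = x * y * (y * x * y) := by rw [mul_self hD.1 hx, mul_one, hb]
      _ = x * (y * y) * x * y := by group
      _ = y := by rw [mul_self hD.1 hy, mul_one, mul_self hD.1 hx, one_mul]
  · rw [hb]
    calc y * x * y * y * (x * (y * x)) = y * x * (y * y) * x * y * x := by group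
      _ = y * (x * x) * y * x := by rw [mul_self hD.1 hy, mul_one]; group
      _ = x := by rw [mul_self hD.1 hx, mul_one, mul_self hD.1 hy, one_mul]

theorem orb_of_commute (hD : IsClosedSet D) {u x y : G} (hu : u ∈ D) (hx : x ∈ D) (hy : y ∈ D)
    (hux : ¬ Commute u x) (huy : ¬ Commute u y) (hxy : Commute x y) : Orb u x u y := by
  by_cases hne : x = y
  · subst hne; exact Orb.refl _ _
  obtain ⟨φ, -, h0, h1, h2⟩ := Cfsg.Agent.S5344.result hD.1 hx hu hy hne hxy (fun h => hux h.symm) huy
  refine ⟨φ (Equiv.swap 0 3 * Equiv.swap 1 2), ?_, ?_⟩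
  · rw [← h1, ← map_inv, ← map_mul, ← map_mul]; congr 1; decide +kernel
  · rw [← h0, ← h2, ← map_inv, ← map_mul, ← map_mul]; congr 1; decide +kernel

theorem orb_swap_com (hD : IsClosedSet D) {u x y : G} (hu : u ∈ D) (hx : x ∈ D) (hy : y ∈ D)
    (hne : x ≠ y) (hux : ¬ Commute u x) (huy : ¬ Commute u y) (hxy : Commute x y) : Orb x y y x := by
  obtain ⟨φ, -, h0, -, h2⟩ := Cfsg.Agent.S5344.result hD.1 hx hu hy hne hxy (fun h => hux h.symm) huy
  refine ⟨φ (Equiv.swap 0 2 * Equiv.swap 1 3), ?_, ?_⟩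
  · rw [← h0, ← h2, ← map_inv, ← map_mul, ← map_mul]; congr 1; decide +kernel
  · rw [← h0, ← h2, ← map_inv, ← map_mul, ← map_mul]; congr 1; decide +kernel

theorem orb_fixed (hD : IsClosedSet D) {u x y : G} (hx : x ∈ D) (hy : y ∈ D) (hux : Commute u x)
    (huy : Commute u y) (hxy : ¬ Commute x y) : Orb u x u y := by
  have hc : Commute (x * y * x) u := ((hux.mul_right huy).mul_right hux).symm
  obtain ⟨g, hg1, hg2⟩ : ∃ g : G, g * x * g⁻¹ = y ∧ Commute g u := by
    refine ⟨x * y * x, ?_, hc⟩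
    have hb := braid hD.1 hx hy hxy
    simp only [mul_inv_rev, inv_eq hD.1 hx, inv_eq hD.1 hy]
    calc x * y * x * x * (x * (y * x)) = x * y * (x * x) * (x * y * x) := by group
      _ = x * y * (y * x * y) := by rw [mul_self hD.1 hx, mul_one, hb]
      _ = x * (y * y) * x * y := by group
      _ = y := by rw [mul_self hD.1 hy, mul_one, mul_self hD.1 hx, one_mul]
  exact ⟨g, by rw [hg2.eq, mul_inv_cancel_right], hg1⟩

theorem mem_of_conj {u v x y : G} (hD : IsClosedSet D) (h : Orb u v x y) (hu : u ∈ D) (hv : v ∈ D) :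
    x ∈ D ∧ y ∈ D := by
  obtain ⟨g, rfl, rfl⟩ := h
  exact ⟨hD.2 g u hu, hD.2 g v hv⟩

theorem commute_of_orb {u v x y : G} (h : Orb u v x y) : Commute x y ↔ Commute u v := by
  obtain ⟨g, rfl, rfl⟩ := h
  exact conj_commute_iff g u v

/-- Members commuting with `u` (other than it) and not with `v`. -/
def sSet (D : Set G) (u v : G) : Set G := comSet D u ∩ adjSet D v

/-- Common non-commuting members. -/
def nSet (D : Set G) (u v : G) : Set G := adjSet D u ∩ adjSet D v

theorem sSet_ncard (hD : IsClosedSet D) {u v x y : G} (h : Orb u v x y) :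
    (sSet D x y).ncard = (sSet D u v).ncard := by
  obtain ⟨g, rfl, rfl⟩ := h
  rw [sSet, sSet, ← comSet_image hD, ← adjSet_image hD, ← Set.image_inter (conj_inj' g),
    Set.ncard_image_of_injective _ (conj_inj' g)]

theorem nSet_ncard (hD : IsClosedSet D) {u v x y : G} (h : Orb u v x y) :
    (nSet D x y).ncard = (nSet D u v).ncard := by
  obtain ⟨g, rfl, rfl⟩ := h
  rw [nSet, nSet, ← adjSet_image hD, ← adjSet_image hD, ← Set.image_inter (conj_inj' g),
    Set.ncard_image_of_injective _ (conj_inj' g)]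

/-- Non-commuting ordered pairs form one orbit. -/
theorem orb_adj (hD : IsThreeTranspositionClass D) (hs : ModulesTrivial D)
    (hw : ∀ a ∈ D, ∃ b ∈ D, b ≠ a ∧ Commute a b) :
    ∀ u ∈ D, ∀ v ∈ D, ∀ x ∈ D, ∀ y ∈ D, ¬ Commute u v → ¬ Commute x y → Orb u v x y := by
  have hD' := isClosedSet_of_class hD
  intro u₁ hu₁ v₁ hv₁ x₁ hx₁ y₁ hy₁ huv₁ hxy₁
  have hD2 : ∃ a ∈ D, ∃ b ∈ D, a ≠ b := ⟨u₁, hu₁, v₁, hv₁, ne_of_not_commute huv₁⟩
  let S : Set ℕ := {n | ∃ u v, u ∈ D ∧ v ∈ D ∧ ¬ Commute u v ∧ (sSet D u v).ncard = n}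
  have hS : S.Nonempty := ⟨_, u₁, v₁, hu₁, hv₁, huv₁, rfl⟩
  obtain ⟨u₀, v₀, hu₀, hv₀, huv₀, hmin⟩ := Nat.sInf_mem hS
  have hle : ∀ {p q}, p ∈ D → q ∈ D → ¬ Commute p q → (sSet D u₀ v₀).ncard ≤ (sSet D p q).ncard :=
    fun hp hq h => hmin ▸ Nat.sInf_le ⟨_, _, hp, hq, h, rfl⟩
  let R : G → G → Prop := Orb u₀ v₀
  have hRD : ∀ {p q}, R p q → p ∈ D ∧ q ∈ D := fun h => mem_of_conj hD' h hu₀ hv₀
  have hRadj : ∀ {p q}, R p q → ¬ Commute p q := fun h => (commute_of_orb h).not.2 huv₀
  have hRsymm : ∀ {p q}, R p q → R q p := fun h =>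
    h.trans (orb_swap_adj hD' (hRD h).1 (hRD h).2 (hRadj h))
  have tri : ∀ {u v w}, R u v → w ∈ D → ¬ Commute u w → ¬ R u w →
      ¬ Commute v w ∧ ¬ R v w := by
    intro u v w huv hw' huw hnR
    obtain ⟨hu, hv⟩ := hRD huv
    have hvw : ¬ Commute v w := fun h =>
      hnR (huv.trans (orb_of_commute hD' hu hv hw' (hRadj huv) huw h))
    refine ⟨hvw, fun hRvw => ?_⟩
    have key : ∀ z, z ∈ D → ¬ Commute u z → ¬ Commute v z → ¬ R u z → R v z →
        sSet D u z ⊆ sSet D u v := by
      intro z hz huz hvz hn hvz' d hd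
      refine ⟨hd.1, hd.1.1, fun hvd => hn ?_⟩
      have hzd : ¬ Commute z d := hd.2.2
      have h1 := orb_of_commute hD' hz hd.1.1 hu hzd (fun h => huz h.symm) hd.1.2.2.symm
      have h2 := orb_of_commute hD' hz hd.1.1 hv hzd (fun h => hvz h.symm) hvd.symm
      exact hRsymm (((hRsymm hvz').trans h2.symm).trans h1)
    have heq : ∀ z, z ∈ D → ¬ Commute u z → ¬ Commute v z → ¬ R u z → R v z →
        sSet D u z = sSet D u v := fun z hz huz hvz hn hvz' =>
      Set.eq_of_subset_of_ncard_le (key z hz huz hvz hn hvz')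
        ((sSet_ncard hD' huv).le.trans (hle hu hz huz))
    have hnot : ∀ z, z ∈ D → ¬ Commute u z → ¬ R u z → sSet D u v ⊆ sSet D u z := by
      intro z hz huz hn d hd
      by_contra hdz
      have hdz' : Commute z d := by
        by_contra h; exact hdz ⟨hd.1, hd.1.1, h⟩
      have hvz : ¬ Commute v z := fun h => hn (huv.trans (orb_of_commute hD' hu hv hz (hRadj huv) huz h))
      have hvd : ¬ Commute v d := hd.2.2
      have hvu : ¬ Commute v u := fun h => hRadj huv h.symm
      have h1 := orb_of_commute hD' hv hu hd.1.1 hvu hvd hd.1.2.2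
      have h2 := orb_of_commute hD' hv hd.1.1 hz hvd hvz hdz'.symm
      have hvz' : R v z := ((hRsymm huv).trans h1).trans h2
      exact hdz (heq z hz huz hvz hn hvz' ▸ hd)
    have hall : ∀ z ∈ adjSet D u, sSet D u v ⊆ sSet D u z := by
      rintro z ⟨hz, huz⟩
      by_cases hn : R u z
      · have hzw : ¬ Commute z w := fun h =>
          hnR (hn.trans (orb_of_commute hD' hu hz hw' huz huw h))
        have hweq := heq w hw' huw hvw hnR hRvw
        have hsub : sSet D u z ⊆ sSet D u w := by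
          intro d hd
          by_contra hdw
          have hdw' : Commute w d := by
            by_contra h; exact hdw ⟨hd.1, hd.1.1, h⟩
          have hzd : ¬ Commute z d := hd.2.2
          have h1 := orb_of_commute hD' hz hu hd.1.1 (fun h => huz h.symm) hzd hd.1.2.2
          have h2 := orb_of_commute hD' hz hd.1.1 hw' hzd hzw hdw'.symm
          have hzw' : R z w := ((hRsymm hn).trans h1).trans h2
          have hkey : sSet D u w ⊆ sSet D u z := by
            intro e he
            refine ⟨he.1, he.1.1, fun hze => hnR ?_⟩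
            have hwe : ¬ Commute w e := he.2.2
            have g1 := orb_of_commute hD' hw' he.1.1 hu hwe (fun h => huw h.symm) he.1.2.2.symm
            have g2 := orb_of_commute hD' hw' he.1.1 hz hwe (fun h => hzw h.symm) hze.symm
            exact hRsymm (((hRsymm hzw').trans g2.symm).trans g1)
          have := Set.eq_of_subset_of_ncard_le hkey
            ((sSet_ncard hD' hn).le.trans (hle hu hw' huw))
          exact hdw (this ▸ hd)
        have := Set.eq_of_subset_of_ncard_le hsub (by rw [hweq, sSet_ncard hD' huv, sSet_ncard hD' hn])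
        rw [this, hweq]
      · exact hnot z hz huz hn
    obtain ⟨d, hd⟩ : (sSet D u v).Nonempty := by
      by_contra hempty
      rw [Set.not_nonempty_iff_eq_empty] at hempty
      have hsub : comSet D u ⊆ comSet D v := by
        intro e he
        refine ⟨he.1, fun h => hRadj huv (h ▸ he.2.2), ?_⟩
        by_contra h
        exact (Set.eq_empty_iff_forall_notMem.1 hempty e) ⟨he, he.1, h⟩
      have := Set.eq_of_subset_of_ncard_le hsub (comSet_ncard hD hu hv).ge
      exact ne_of_not_commute (hRadj huv) (eq_of_comSet hD hs hw hu hv this)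
    have hsub : adjSet D u ⊆ adjSet D d := fun z hz => ⟨hz.1, fun h => (hall z hz hd).2.2 h.symm⟩
    have := Set.eq_of_subset_of_ncard_le hsub (adjSet_ncard hD hu hd.1.1).ge
    exact hd.1.2.1 (eq_of_adjSet hD hs hD2 hu hd.1.1 this).symm
  have hmod : IsModule D (Relation.EqvGen R) := by
    refine eqvGen_module hD (fun g p q h => h.trans ⟨g, rfl, rfl⟩) hRD ?_
    intro p q hpq w hw' hnw
    obtain ⟨hp, hq⟩ := hRD hpq
    constructor
    · intro h
      by_contra hqw
      exact hnw ((Relation.EqvGen.rel _ _ hpq).trans _ _ _ (.rel _ _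
        ((hRsymm hpq).trans (orb_of_commute hD' hq hp hw' (fun h => hRadj hpq h.symm) hqw h))))
    · intro h
      by_contra hpw
      exact hnw (.rel _ _ (hpq.trans (orb_of_commute hD' hp hq hw' (hRadj hpq) hpw h)))
  have main : ∀ {p q}, p ∈ D → q ∈ D → ¬ Commute p q → R p q := by
    intro p q hp hq hpq
    by_contra hn
    have huni := hs hmod hu₀ hv₀ (ne_of_not_commute huv₀)
      (.rel _ _ (Orb.refl _ _)) p hp q hq
    have hP := eqvGen_iff (fun x => ¬ Commute x q ∧ ¬ R x q) (fun x y hxy => ?_) huni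
    · exact (hP.1 ⟨hpq, hn⟩).1 (Commute.refl q)
    · exact ⟨fun h => tri hxy hq h.1 h.2, fun h => tri (hRsymm hxy) hq h.1 h.2⟩
  exact (main hu₁ hv₁ huv₁).symm.trans (main hx₁ hy₁ hxy₁)

/-- Distinct commuting members have a common non-commuting member. -/
theorem exists_common (hD : IsThreeTranspositionClass D) {u v : G} (hu : u ∈ D) (hv : v ∈ D)
    (hne : v ≠ u) (hc : Commute u v) : (nSet D u v).Nonempty := by
  have hD' := isClosedSet_of_class hD
  by_contra hempty
  let P : G → Prop := fun z => z ∈ D ∧ z ≠ u ∧ Commute u z ∧ ¬ (nSet D u z).Nonempty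
  have hall := all_of_adj_closed hD P ?_ hv ⟨hv, hne, hc, hempty⟩ u hu
  · exact hall.2.1 rfl
  · rintro x hx y hy ⟨-, -, hux, hex⟩ hxy
    have huy : Commute u y := by
      by_contra h
      exact hex ⟨y, ⟨hy, h⟩, hy, hxy⟩
    refine ⟨hy, fun h => hxy (h ▸ hux.symm), huy, fun hy' => hex ?_⟩
    have := nSet_ncard hD' (orb_fixed hD' hx hy hux huy hxy)
    rwa [← Set.ncard_pos, ← this, Set.ncard_pos]

/-- Commuting ordered pairs of distinct members form one orbit. -/
theorem orb_com (hD : IsThreeTranspositionClass D) (hs : ModulesTrivial D)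
    (hw : ∀ a ∈ D, ∃ b ∈ D, b ≠ a ∧ Commute a b) :
    ∀ u ∈ D, ∀ v ∈ D, ∀ x ∈ D, ∀ y ∈ D, v ≠ u → y ≠ x → Commute u v → Commute x y →
      Orb u v x y := by
  have hD' := isClosedSet_of_class hD
  intro u₁ hu₁ v₁ hv₁ x₁ hx₁ y₁ hy₁ hne₁ hne₁' huv₁ hxy₁
  have hD2 : ∃ a ∈ D, ∃ b ∈ D, a ≠ b := ⟨v₁, hv₁, u₁, hu₁, hne₁⟩
  let S : Set ℕ := {n | ∃ u v, u ∈ D ∧ v ∈ D ∧ v ≠ u ∧ Commute u v ∧ (nSet D u v).ncard = n}
  have hS : S.Nonempty := ⟨_, u₁, v₁, hu₁, hv₁, hne₁, huv₁, rfl⟩
  have hbdd : BddAbove S := ⟨Nat.card G, by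
    rintro n ⟨u, v, -, -, -, -, rfl⟩
    exact (Set.ncard_le_ncard (Set.subset_univ _) (Set.toFinite _)).trans (Set.ncard_univ G).le⟩
  obtain ⟨u₀, v₀, hu₀, hv₀, hne₀, huv₀, hmax⟩ := Nat.sSup_mem hS hbdd
  have hle : ∀ {p q}, p ∈ D → q ∈ D → q ≠ p → Commute p q → (nSet D p q).ncard ≤ (nSet D u₀ v₀).ncard :=
    fun hp hq hn h => hmax ▸ le_csSup hbdd ⟨_, _, hp, hq, hn, h, rfl⟩
  let R : G → G → Prop := Orb u₀ v₀
  have hRD : ∀ {p q}, R p q → p ∈ D ∧ q ∈ D := fun h => mem_of_conj hD' h hu₀ hv₀
  have hRcom : ∀ {p q}, R p q → Commute p q := fun h => (commute_of_orb h).2 huv₀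
  have hRne : ∀ {p q}, R p q → q ≠ p := by
    rintro p q ⟨g, rfl, rfl⟩ h; exact hne₀ (conj_left_inj.1 h)
  have hswap : ∀ {p q}, p ∈ D → q ∈ D → q ≠ p → Commute p q → Orb p q q p := by
    intro p q hp hq hn h
    obtain ⟨c, ⟨hc, hpc⟩, -, hqc⟩ := exists_common hD hp hq hn h
    exact orb_swap_com hD' hc hp hq (Ne.symm hn) (fun h => hpc h.symm) (fun h => hqc h.symm) h
  have hRsymm : ∀ {p q}, R p q → R q p := fun h =>
    h.trans (hswap (hRD h).1 (hRD h).2 (hRne h) (hRcom h))
  have tri : ∀ {u v w}, R u v → w ∈ D → w ≠ u → Commute u w → ¬ R u w →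
      w ≠ v ∧ Commute v w ∧ ¬ R v w := by
    intro u v w huv hw' hwu huw hnR
    obtain ⟨hu, hv⟩ := hRD huv
    have com : ∀ {z}, z ∈ D → Commute u z → ¬ R u z → Commute v z := by
      intro z hz huz hn
      by_contra h
      exact hn (huv.trans (orb_fixed hD' hv hz (hRcom huv) huz h))
    refine ⟨fun h => hnR (h ▸ huv), com hw' huw hnR, fun hRvw => ?_⟩
    -- at `z`: a common member of `p`, `q` commuting with `z` puts `(z,p)` and `(z,q)` in one orbit
    have link : ∀ {z p q c}, p ∈ D → q ∈ D → c ∈ D → Commute z p → Commute z q → Commute z c →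
        ¬ Commute p c → ¬ Commute q c → Orb z p z q := fun hp hq hc h1 h2 h3 h4 h5 =>
      (orb_fixed hD' hp hc h1 h3 h4).trans (orb_fixed hD' hc hq h3 h2 (fun h => h5 h.symm))
    have heq : ∀ {v' z}, R u v' → z ∈ D → z ≠ u → Commute u z → Commute v' z → ¬ R u z → R v' z →
        nSet D u z = nSet D u v' := by
      intro v' z huv' hz hzu huz hv'z hn hv'z'
      have hsub : nSet D u v' ⊆ nSet D u z := fun c hc => ⟨hc.1, hc.1.1, fun hcz =>
        hn (hRsymm ((hRsymm hv'z').trans
          (link hu (hRD huv').2 hc.1.1 huz.symm hv'z.symm hcz hc.1.2 hc.2.2).symm))⟩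
      refine (Set.eq_of_subset_of_ncard_le hsub ?_).symm
      · exact (hle hu hz hzu huz).trans (nSet_ncard hD' huv').ge
    have hweq := heq huv hw' hwu huw (com hw' huw hnR) hnR hRvw
    have hall : ∀ z ∈ comSet D u, nSet D u z ⊆ nSet D u v := by
      rintro z ⟨hz, hzu, huz⟩ c hc
      by_cases hn : R u z
      · have hzw : Commute z w := by
          by_contra h
          exact hnR (hn.trans (orb_fixed hD' hz hw' (hRcom hn) huw h))
        by_contra hcv
        rw [← hweq] at hcv
        have hwc : Commute w c := by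
          by_contra h; exact hcv ⟨hc.1, hc.1.1, h⟩
        have hsub : nSet D u w ⊆ nSet D u z := by
          intro e he
          refine ⟨he.1, he.1.1, fun hze => hnR ?_⟩
          -- `(z,u)` and `(z,w)` are in one orbit
          have g1 := link hu hw' he.1.1 (hRcom hn).symm hzw hze he.1.2 he.2.2
          have hzw' : R z w := (hRsymm hn).trans g1
          have g2 := link hz hu hc.1.1 hzw.symm huw.symm hwc hc.2.2 hc.1.2
          exact hRsymm ((hRsymm hzw').trans g2)
        have hcard : (nSet D u z).ncard ≤ (nSet D u w).ncard := by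
          rw [hweq, nSet_ncard hD' hn, nSet_ncard hD' huv]
        exact hcv (Set.eq_of_subset_of_ncard_le hsub hcard ▸ hc)
      · by_contra hcv
        have hvc : Commute v c := by
          by_contra h; exact hcv ⟨hc.1, hc.1.1, h⟩
        have hvz := com hz huz hn
        have h1 := link hu hz hc.1.1 (hRcom huv).symm hvz hvc hc.1.2 hc.2.2
        exact hcv (heq huv hz hzu huz hvz hn ((hRsymm huv).trans h1) ▸ hc)
    obtain ⟨c, ⟨hc, hcu⟩, hcv⟩ : ∃ c ∈ adjSet D u, c ∉ nSet D u v := by
      by_contra h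
      push Not at h
      have := Set.eq_of_subset_of_ncard_le (fun e he => (h e he).2) (adjSet_ncard hD hu hv).ge
      exact hRne huv (eq_of_adjSet hD hs hD2 hu hv this).symm
    have hsub : comSet D u ⊆ comSet D c := by
      intro z hz
      refine ⟨hz.1, fun h => hcu (h ▸ hz.2.2), ?_⟩
      by_contra h
      exact hcv (hall z hz ⟨⟨hc, hcu⟩, hc, fun h' => h h'.symm⟩)
    have := Set.eq_of_subset_of_ncard_le hsub (comSet_ncard hD hu hc).ge
    exact ne_of_not_commute hcu (eq_of_comSet hD hs hw hu hc this)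
  have hmod : IsModule D (Relation.EqvGen R) := by
    refine eqvGen_module hD (fun g p q h => h.trans ⟨g, rfl, rfl⟩) hRD ?_
    intro p q hpq w hw' hnw
    obtain ⟨hp, hq⟩ := hRD hpq
    constructor
    · intro h
      by_contra hqw
      exact hnw (.rel _ _ (hpq.trans (orb_fixed hD' hq hw' (hRcom hpq) h hqw)))
    · intro h
      by_contra hpw
      exact hnw ((Relation.EqvGen.rel _ _ hpq).trans _ _ _ (.rel _ _
        ((hRsymm hpq).trans (orb_fixed hD' hp hw' (hRcom hpq).symm h hpw))))
  have main : ∀ {p q}, p ∈ D → q ∈ D → q ≠ p → Commute p q → R p q := by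
    intro p q hp hq hne hpq
    by_contra hn
    have huni := hs hmod hu₀ hv₀ (Ne.symm hne₀) (.rel _ _ (Orb.refl _ _)) p hp q hq
    have hP := eqvGen_iff (fun x => q ≠ x ∧ Commute x q ∧ ¬ R x q) (fun x y hxy => ?_) huni
    · exact (hP.1 ⟨hne, hpq, hn⟩).1 rfl
    · exact ⟨fun h => tri hxy hq h.1 h.2.1 h.2.2, fun h => tri (hRsymm hxy) hq h.1 h.2.1 h.2.2⟩
  exact (main hu₁ hv₁ hne₁ huv₁).symm.trans (main hx₁ hy₁ hne₁' hxy₁)

end Cfsg.Agent.Lib.RankThree
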