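import Mathlib

/-!
Generated data: the free Hall triple system on four points (81 points), derivation steps for its table,
and a polycyclic sequence for its translation group.
-/

set_option autoImplicit false

namespace Cfsg.Agent.Lib.RankThree.HallData

/-- For each point: path from a generating point, and that point. -/
def points : List (List ℕ × ℕ) :=
  [([], 0), ([], 1), ([], 2), ([], 3), ([1], 0), ([2], 0), ([3], 0), ([2], 1), ([3], 1), ([3], 2), ([2, 1], 0), ([3, 1], 0), ([1, 2], 0), ([3, 2], 0), ([1, 3], 0), ([2, 3], 0), ([0, 2], 1), ([3, 2], 1), ([0, 3], 1), ([2, 3], 1), ([0, 3], 2), ([1, 3], 2), ([3, 2, 1], 0), ([2, 3, 1], 0), ([3, 1, 2], 0), ([1, 3, 2], 0), ([2, 1, 3], 0), ([1, 2, 3], 0), ([3, 0, 2], 1), ([0, 3, 2], 1), ([2, 0, 3], 1), ([0, 2, 3], 1), ([1, 0, 3], 2), ([0, 1, 3], 2), ([0, 3, 2, 1], 0), ([1,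 3, 2, 1], 0), ([2, 3, 2, 1], 0), ([0, 2, 3, 1], 0), ([1, 2, 3, 1], 0), ([0, 3, 1, 2], 0), ([1, 3, 1, 2], 0), ([2, 3, 1, 2], 0), ([0, 1, 3, 2], 0), ([2, 1, 3, 2], 0), ([0, 2, 1, 3], 0), ([1, 2, 1, 3], 0), ([3, 2, 1, 3], 0), ([0, 1, 2, 3], 0), ([3, 1, 2, 3], 0), ([1, 3, 0, 2], 1), ([2, 3, 0, 2], 1), ([1, 0, 3, 2], 1), ([2, 0, 3, 2], 1), ([1, 2, 0, 3], 1), ([3, 2, 0, 3], 1), ([1, 0, 2, 3], 1), ([3, 0, 2, 3], 1), ([2, 1, 0, 3], 2), ([3, 1, 0, 3], 2), ([2, 0, 1, 3], 2), ([3, 0, 1, 3], 2), ([2, 0, 3, 2, 1], 0), ([2, 1, 3, 2, 1], 0), ([3, 0, 2, 3, 1], 0), ([3, 1, 2, 3, 1], 0), ([1, 0, 3, 1, 2], 0), ([1, 2, 3, 1, 2], 0), ([3, 0, 1, 3, 2], 0), ([3, 2, 1, 3, 2], 0), ([1, 0, 2, 1, 3], 0), ([1, 3, 2, 1, 3], 0), ([2, 0, 1, 2, 3], 0), ([2, 3, 1, 2, 3], 0), ([1, 2, 0, 3, 2, 1], 0), ([3, 2, 0, 3, 2, 1], 0), ([0, 2, 1, 3, 2, 1], 0),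 ([3, 2, 1, 3, 2, 1], 0), ([1, 3, 0, 2, 3, 1], 0), ([2, 3, 0, 2, 3, 1], 0), ([0, 3, 1, 2, 3, 1], 0), ([2, 3, 1, 2, 3, 1], 0)]

/-- Tree edges: `g` maps parent to child. -/
def edges : List (ℕ × ℕ × ℕ) :=
  [(1, 0, 4), (2, 0, 5), (3, 0, 6), (2, 1, 7), (3, 1, 8), (3, 2, 9), (2, 4, 10), (3, 4, 11), (1, 5, 12), (3, 5, 13), (1, 6, 14), (2, 6, 15), (0, 7, 16), (3, 7, 17), (0, 8, 18), (2, 8, 19), (0, 9, 20), (1, 9, 21), (3, 10, 22), (2, 11, 23), (3, 12, 24), (1, 13, 25), (2, 14, 26), (1, 15, 27), (3, 16, 28), (0, 17, 29), (2, 18, 30), (0, 19, 31), (1, 20, 32), (0, 21, 33), (0, 22, 34), (1, 22, 35), (2, 22, 36), (0, 23, 37), (1, 23, 38), (0, 24, 39), (1, 24, 40), (2, 24, 41), (0, 25, 42), (2, 25, 43), (0, 26, 44), (1, 26, 45), (3, 26, 46), (0, 27, 47), (3, 27, 48), (1, 28, 49), (2, 28, 50), (1, 29, 51), (2, 29, 52), (1, 30,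 53), (3, 30, 54), (1, 31, 55), (3, 31, 56), (2, 32, 57), (3, 32, 58), (2, 33, 59), (3, 33, 60), (2, 34, 61), (2, 35, 62), (3, 37, 63), (3, 38, 64), (1, 39, 65), (1, 41, 66), (3, 42, 67), (3, 43, 68), (1, 44, 69), (1, 46, 70), (2, 47, 71), (2, 48, 72), (1, 61, 73), (3, 61, 74), (0, 62, 75), (3, 62, 76), (1, 63, 77), (2, 63, 78), (0, 64, 79), (2, 64, 80)]

/-- Derivation steps `(p, q, split)`. -/
def steps : List (ℕ × ℕ × ℕ) :=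
  [(0, 1, 1), (0, 2, 1), (0, 3, 1), (0, 7, 2), (0, 8, 2), (0, 9, 2), (1, 2, 1), (1, 3, 1), (1, 9, 2), (1, 10, 5), (1, 11, 5), (1, 16, 4), (1, 18, 4), (1, 26, 6), (1, 27, 4), (2, 3, 1), (2, 13, 5), (2, 17, 5), (2, 20, 4), (2, 21, 4), (2, 22, 6), (2, 23, 4), (2, 37, 9), (2, 38, 9), (2, 46, 9), (2, 64, 10), (3, 12, 3), (3, 16, 4), (3, 25, 7), (3, 26, 5), (3, 30, 5), (3, 32, 6), (3, 33, 6), (3, 34, 9), (3, 35, 9), (3, 41, 9), (3, 43, 8), (3, 44, 9), (3, 45, 7), (3, 48, 6), (3, 51, 9), (3, 52, 9), (3, 62, 10), (3, 64, 9), (3, 66, 10), (3, 78, 13), (4, 13, 5), (4, 15, 4), (4, 17, 4), (4, 20, 6), (4, 28, 8), (4, 29, 8), (4, 30, 8), (4, 39, 8), (4, 40, 6), (4, 54, 5), (4, 60, 9), (4, 77, 14), (4, 79, 14), (5, 17, 4), (5, 21, 4), (5, 28, 8), (5, 29, 8), (5, 32, 8), (5, 39, 8), (5, 42, 7), (5, 46, 9), (5, 49, 9), (5, 51, 9),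 (5, 55, 10), (5, 56, 10), (5, 77, 15), (6, 35, 9), (6, 38, 4), (6, 43, 4), (6, 49, 10), (7, 33, 8), (7, 42, 9), (7, 47, 10), (7, 56, 10), (7, 77, 12), (8, 61, 5), (8, 73, 15)]

def table : List (List ℕ) :=
  [[0, 4, 5, 6, 1, 2, 3, 16, 18, 20, 12, 14, 10, 15, 11, 13, 7, 29, 8, 31, 9, 33, 34, 37, 39, 42, 44, 47, 45, 17, 40, 19, 36, 21, 22, 38, 32, 23, 35, 24, 30, 43, 25, 41, 26, 28, 48, 27, 46, 69, 71, 55, 59, 65, 67, 51, 60, 61, 63, 52, 56, 57, 75, 58, 79, 53, 73, 54, 78, 49, 77, 50, 74, 66, 72, 62, 80, 70, 68, 64, 76],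
   [4, 1, 7, 8, 0, 12, 14, 2, 3, 21, 16, 18, 5, 25, 6, 27, 10, 19, 11, 17, 32, 9, 35, 38, 40, 13, 45, 15, 49, 51, 53, 55, 20, 36, 37, 22, 33, 34, 23, 65, 24, 66, 47, 57, 69, 26, 70, 42, 58, 28, 52, 29, 50, 30, 56, 31, 54, 43, 48, 62, 64, 73, 59, 77, 60, 39, 41, 79, 76, 44, 46, 75, 80, 61, 78, 71, 68, 63, 74, 67, 72],
   [5, 7, 2, 9, 10, 0, 15, 1, 19, 3, 4, 23, 16, 20, 26, 6, 12, 21, 30, 8, 13, 17, 36, 11, 41, 43, 14, 45, 50, 52, 18, 40, 57, 59, 61, 62, 22, 44, 53, 42, 31, 24, 39, 25, 37, 27, 54, 71, 72, 51, 28, 49, 29, 38, 46, 66, 68, 32, 60, 33, 58, 34, 35, 78, 80, 75, 55, 74, 56, 73, 76, 47, 48, 69, 67, 65, 70, 79, 63, 77, 64],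
   [6, 8, 9, 3, 11, 13, 0, 17, 1, 2, 22, 4, 24, 5, 18, 20, 28, 7, 14, 21, 15, 19, 10, 36, 12, 40, 46, 48, 16, 45, 54, 56, 58, 60, 39, 49, 23, 63, 64, 34, 25, 50, 67, 68, 47, 29, 26, 44, 27, 35, 41, 70, 72, 55, 30, 53, 31, 59, 32, 57, 33, 74, 76, 37, 38, 77, 80, 42, 43, 79, 51, 78, 52, 75, 61, 73, 62, 65, 71, 69, 66]]

/-- Each element of the sequence as a word in the three products `0·1, 0·2, 0·3`. -/
def seqWords : List (List ℕ) := [[0], [1], [2], [1, 1, 0, 1, 0, 0], [2, 2, 0, 2, 0, 0], [2, 2, 1, 2, 1, 1], [2, 1, 0, 2, 0, 1, 2, 0, 0, 1, 0, 0]]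

/-- Conjugates of later sequence members by earlier ones, as words in the later ones. -/
def rels : List (List (List ℕ)) := [[[2, 0], [3, 1], [2], [3], [5, 5, 4], [5]], [[3, 0], [1], [4, 2], [3], [4]], [[3, 3, 0], [1], [2], [3]], [[0], [1], [2]], [[0], [1]], [[0]], []]

end Cfsg.Agent.Lib.RankThree.HallData
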