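import Cfsg.Agent.Lib.RankThree.HallData
import Cfsg.Agent.Lib.Involutions.BaerSuzuki

/-!
The width one lemma for 3-transpositions, unconditionally and without the Z*-theorem: if no two distinct
members of a conjugation invariant set of involutions commute and all their products cube to one, then all
products lie in a normal 3-subgroup.

Four members generate, modulo the centre, a quotient of the translation group of the free Hall triple
system on four points (81 points); the table of that system is derived from the braid relation by a short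
checked list of deductions, and its translation group is a 3-group.  Baer-Suzuki finishes the proof.
-/

set_option autoImplicit false

namespace Cfsg.Agent.Lib.RankThree.Width

open HallData

/-! ### The checker -/

/-- Look up the image of `i` under `g` among known edges. -/
def look : List (ℕ × ℕ × ℕ) → ℕ → ℕ → Option ℕ
  | [], _, _ => none
  | (h, a, b) :: F, g, i =>
    bif Nat.beq h g && Nat.beq a i then some b
    else bif Nat.beq h g && Nat.beq b i then some a else look F g i

/-- Apply a word (innermost letter last). -/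
def walk (F : List (ℕ × ℕ × ℕ)) : List ℕ → ℕ → Option ℕ
  | [], i => some i
  | g :: w, i => match walk F w i with
    | none => none
    | some j => look F g j

def pointPath (i : ℕ) : List ℕ × ℕ := points.getD i ([], 0)

/-- The word of conjugation by a point. -/
def pointWord (i : ℕ) : List ℕ := (pointPath i).1 ++ (pointPath i).2 :: (pointPath i).1.reverse

/-- One deduction. -/
def deduce (F : List (ℕ × ℕ × ℕ)) (s : ℕ × ℕ × ℕ) : Option (ℕ × ℕ × ℕ) :=
  let W := pointWord s.2.1 ++ pointWord s.1
  match W.drop s.2.2 with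
  | [] => none
  | g :: B =>
    match walk F B s.2.1, walk F (W.take s.2.2).reverse s.1 with
    | some i, some j => some (g, i, j)
    | _, _ => none

def derive : List (ℕ × ℕ × ℕ) → List (ℕ × ℕ × ℕ) → Option (List (ℕ × ℕ × ℕ))
  | [], F => some F
  | s :: ss, F => match deduce F s with
    | none => none
    | some e => derive ss (e :: F)

def checkEdge (e : ℕ × ℕ × ℕ) : Bool :=
  (pointPath e.2.2).1 == e.1 :: (pointPath e.2.1).1 && Nat.beq (pointPath e.2.2).2 (pointPath e.2.1).2

/-- The initial edges: each generating point fixed by itself, and the tree. -/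
def startEdges : List (ℕ × ℕ × ℕ) := [(0, 0, 0), (1, 1, 1), (2, 2, 2), (3, 3, 3)] ++ edges

def checkTable : Option (List (ℕ × ℕ × ℕ)) → Bool
  | none => false
  | some F => (List.range 4).all fun g => (List.range 81).all fun i =>
      look F g i == some ((table.getD g []).getD i 0)

theorem edges_ok : edges.all checkEdge = true := by decide +kernel

theorem start_ok : ∀ h < 4, pointPath h = ([], h) := by decide +kernel

theorem table_ok : checkTable (derive steps startEdges) = true := by decide +kernel

theorem points_lt : ∀ i < 81, (pointPath i).2 < 4 := by decide +kernel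

/-! ### Soundness -/

section

variable {G : Type*} [Group G]

/-- Iterated conjugation by generators. -/
def conjW (x : ℕ → G) : List ℕ → G → G
  | [], y => y
  | g :: w, y => x g * conjW x w y * x g

theorem conjW_append (x : ℕ → G) : ∀ v w : List ℕ, ∀ y, conjW x (v ++ w) y = conjW x v (conjW x w y)
  | [], w, y => rfl
  | g :: v, w, y => by simp [conjW, conjW_append x v w]

theorem conjW_cancel (x : ℕ → G) (hx : ∀ g, x g * x g = 1) :
    ∀ w : List ℕ, ∀ y, conjW x w.reverse (conjW x w y) = y
  | [], y => rfl
  | g :: w, y => by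
    rw [List.reverse_cons, conjW_append]
    show conjW x w.reverse (x g * (x g * conjW x w y * x g) * x g) = y
    rw [show x g * (x g * conjW x w y * x g) * x g = (x g * x g) * conjW x w y * (x g * x g) by group,
      hx, one_mul, mul_one, conjW_cancel x hx w]

theorem conjW_mul (x : ℕ → G) (hx : ∀ g, x g * x g = 1) : ∀ w : List ℕ, ∀ y z,
    conjW x w (y * z) = conjW x w y * conjW x w z
  | [], y, z => rfl
  | g :: w, y, z => by
    simp only [conjW, conjW_mul x hx w]
    rw [show x g * conjW x w y * x g * (x g * conjW x w z * x g)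
      = x g * conjW x w y * (x g * x g) * conjW x w z * x g by group, hx, mul_one]
    group

/-- The image of a point. -/
def phi (x : ℕ → G) (i : ℕ) : G := conjW x (pointPath i).1 (x (pointPath i).2)

/-- Conjugating by a point is applying its word. -/
theorem conjW_pointWord (x : ℕ → G) (hx : ∀ g, x g * x g = 1) (i : ℕ) (y : G) :
    conjW x (pointWord i) y = phi x i * y * phi x i := by
  rw [pointWord, conjW_append]
  show conjW x _ (x (pointPath i).2 * conjW x (pointPath i).1.reverse y * x (pointPath i).2) = _
  rw [conjW_mul x hx, conjW_mul x hx]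
  have h := conjW_cancel x hx (pointPath i).1.reverse y
  rw [List.reverse_reverse] at h
  rw [h]; rfl

variable (D : Set G) (hconj : ∀ d ∈ D, ∀ e ∈ D, d * e * d ∈ D)
  (hbraid : ∀ d ∈ D, ∀ e ∈ D, d * e * d = e * d * e) (hsq : ∀ d ∈ D, d * d = 1)
  {x : ℕ → G} (hx : ∀ g, x g ∈ D)

include hconj hx in
theorem phi_mem (i : ℕ) : phi x i ∈ D := by
  unfold phi
  generalize (pointPath i).1 = w
  induction w with
  | nil => exact hx _
  | cons g w ih => exact hconj _ (hx g) _ ih

/-- A correct list of edges. -/
def Good (x : ℕ → G) (F : List (ℕ × ℕ × ℕ)) : Prop :=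
  ∀ e ∈ F, x e.1 * phi x e.2.1 * x e.1 = phi x e.2.2

include hsq hx in
theorem look_spec {F : List (ℕ × ℕ × ℕ)} (hF : Good x F) {g i j : ℕ} (h : look F g i = some j) :
    x g * phi x i * x g = phi x j := by
  induction F with
  | nil => simp [look] at h
  | cons e F ih =>
    obtain ⟨e1, e2, e3⟩ := e
    rw [look] at h
    have he := hF (e1, e2, e3) (by simp)
    simp only at he
    rcases hc : (Nat.beq e1 g && Nat.beq e2 i) with _ | _
    · rw [hc, cond_false] at h
      rcases hc' : (Nat.beq e1 g && Nat.beq e3 i) with _ | _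
      · rw [hc', cond_false] at h
        exact ih (fun f hf => hF f (by simp [hf])) h
      · rw [hc', cond_true] at h
        rw [Bool.and_eq_true] at hc'
        obtain rfl := Nat.eq_of_beq_eq_true hc'.1
        obtain rfl := Nat.eq_of_beq_eq_true hc'.2
        obtain rfl := Option.some.inj h
        rw [← he, show x e1 * (x e1 * phi x e2 * x e1) * x e1 = (x e1 * x e1) * phi x e2 * (x e1 * x e1) by
          group, hsq _ (hx e1), one_mul, mul_one]
    · rw [hc, cond_true] at h
      rw [Bool.and_eq_true] at hc
      obtain rfl := Nat.eq_of_beq_eq_true hc.1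
      obtain rfl := Nat.eq_of_beq_eq_true hc.2
      obtain rfl := Option.some.inj h
      exact he

include hsq hx in
theorem walk_spec {F : List (ℕ × ℕ × ℕ)} (hF : Good x F) : ∀ {w : List ℕ} {i j : ℕ},
    walk F w i = some j → conjW x w (phi x i) = phi x j
  | [], i, j, h => by cases h; rfl
  | g :: w, i, j, h => by
    rw [walk] at h
    rcases hw : walk F w i with _ | k
    · rw [hw] at h; simp at h
    · rw [hw] at h
      show x g * conjW x w (phi x i) * x g = _
      rw [walk_spec hF hw]
      exact look_spec D hsq hx hF h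

include hconj hbraid hsq hx in
theorem deduce_spec {F : List (ℕ × ℕ × ℕ)} (hF : Good x F) {s e : ℕ × ℕ × ℕ} (h : deduce F s = some e) :
    x e.1 * phi x e.2.1 * x e.1 = phi x e.2.2 := by
  obtain ⟨p, q, n⟩ := s
  obtain ⟨W, hW⟩ : ∃ W, W = pointWord q ++ pointWord p := ⟨_, rfl⟩
  simp only [deduce, ← hW] at h
  have hx' : ∀ g, x g * x g = 1 := fun g => hsq _ (hx g)
  have hpq : conjW x W (phi x q) = phi x p := by
    rw [hW, conjW_append, conjW_pointWord x hx', conjW_pointWord x hx']
    have hb := hbraid _ (phi_mem D hconj hx p) _ (phi_mem D hconj hx q)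
    rw [hb, show phi x q * (phi x q * phi x p * phi x q) * phi x q
      = (phi x q * phi x q) * phi x p * (phi x q * phi x q) by group, hsq _ (phi_mem D hconj hx q),
      one_mul, mul_one]
  rcases hd : W.drop n with _ | ⟨g, B⟩
  · rw [hd] at h; simp at h
  rw [hd] at h
  simp only at h
  rcases hi : walk F B q with _ | i
  · rw [hi] at h; simp at h
  rcases hj : walk F (W.take n).reverse p with _ | j
  · rw [hi, hj] at h; simp at h
  rw [hi, hj] at h
  obtain rfl := Option.some.inj h
  have h1 := walk_spec D hsq hx hF hi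
  have h2 := walk_spec D hsq hx hF hj
  rw [← List.take_append_drop n W, hd, conjW_append] at hpq
  rw [← hpq, conjW_cancel x hx'] at h2
  show x g * phi x i * x g = phi x j
  rw [← h2, ← h1]; rfl

include hconj hbraid hsq hx in
theorem derive_spec : ∀ {ss F F' : List (ℕ × ℕ × ℕ)}, Good x F → derive ss F = some F' → Good x F'
  | [], F, F', hF, h => by cases h; exact hF
  | s :: ss, F, F', hF, h => by
    rw [derive] at h
    rcases he : deduce F s with _ | e
    · rw [he] at h; simp at h
    rw [he] at h
    refine derive_spec (F := e :: F) ?_ h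
    intro f hf
    rcases List.mem_cons.1 hf with rfl | hf
    · exact deduce_spec D hconj hbraid hsq hx hF he
    · exact hF f hf

include hsq hx in
theorem start_good : Good x startEdges := by
  intro e he
  rcases List.mem_append.1 he with he | he
  · simp only [List.mem_cons, List.not_mem_nil, or_false] at he
    have fix : ∀ h < 4, x h * phi x h * x h = phi x h := by
      intro h hh
      simp only [phi, start_ok h hh, conjW, hsq _ (hx h), one_mul]
    rcases he with rfl | rfl | rfl | rfl <;> exact fix _ (by norm_num)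
  · have h := List.all_eq_true.1 edges_ok e he
    simp only [checkEdge, Bool.and_eq_true, beq_iff_eq] at h
    simp only [phi, h.1, ← Nat.eq_of_beq_eq_true h.2]
    rfl

include hconj hbraid hsq hx in
/-- The action of a generator on the images of the 81 points follows the table. -/
theorem table_spec {g i : ℕ} (hg : g < 4) (hi : i < 81) :
    x g * phi x i * x g = phi x ((table.getD g []).getD i 0) := by
  have h := table_ok
  rcases hF : derive steps startEdges with _ | F
  · rw [hF] at h; simp [checkTable] at h
  rw [hF] at h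
  simp only [checkTable, List.all_eq_true, List.mem_range, beq_iff_eq] at h
  exact look_spec D hsq hx (derive_spec D hconj hbraid hsq hx (start_good D hsq hx) hF) (h g hg i hi)

end

/-! ### The translation group of the 81 points -/

theorem table_lt : ∀ g : Fin 4, ∀ i : Fin 81, (table.getD g.1 []).getD i.1 0 < 81 := by decide +kernel

theorem table_inv : ∀ g : Fin 4, ∀ i : Fin 81,
    (table.getD g.1 []).getD ((table.getD g.1 []).getD i.1 0) 0 = i.1 := by decide +kernel

/-- The reflection of a generating point. -/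
def tau (g : Fin 4) : Equiv.Perm (Fin 81) :=
  Function.Involutive.toPerm (fun i => ⟨(table.getD g.1 []).getD i.1 0, table_lt g i⟩)
    (fun i => Fin.ext (table_inv g i))

/-- The three basic translations. -/
def trans (k : ℕ) : Equiv.Perm (Fin 81) :=
  match k with
  | 0 => tau 0 * tau 1
  | 1 => tau 0 * tau 2
  | _ => tau 0 * tau 3

def evalW (s : ℕ → Equiv.Perm (Fin 81)) : List ℕ → Equiv.Perm (Fin 81)
  | [] => 1
  | k :: w => s k * evalW s w

/-- The polycyclic sequence. -/
def seqAt (i : ℕ) : Equiv.Perm (Fin 81) := evalW trans (seqWords.getD i [])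

theorem seq_first : ∀ k : Fin 3, seqAt k.1 = trans k.1 := by decide +kernel

theorem seq_cube : ∀ i : Fin 7, seqAt i.1 * seqAt i.1 * seqAt i.1 = 1 := by decide +kernel

theorem seq_conj : ∀ i : Fin 7, ∀ j : Fin 7, i.1 < j.1 →
    seqAt i.1 * seqAt j.1 * seqAt i.1 * seqAt i.1
      = evalW (fun k => seqAt (i.1 + 1 + k)) ((rels.getD i.1 []).getD (j.1 - (i.1 + 1)) []) ∧
      ((rels.getD i.1 []).getD (j.1 - (i.1 + 1)) []).all (fun k => Nat.blt (i.1 + 1 + k) 7) = true := by
  decide +kernel

/-- The subgroup generated by the sequence from `i` on. -/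
def tailGroup (i : ℕ) : Subgroup (Equiv.Perm (Fin 81)) :=
  Subgroup.closure {s | ∃ j, i ≤ j ∧ j < 7 ∧ s = seqAt j}

theorem isPGroup_tailGroup : ∀ n : ℕ, IsPGroup 3 (tailGroup (7 - n))
  | 0 => by
    have h : tailGroup 7 = ⊥ := by
      rw [tailGroup, Subgroup.closure_eq_bot_iff]
      rintro s ⟨j, h1, h2, -⟩; omega
    rw [show (7 : ℕ) - 0 = 7 from rfl, h]
    exact IsPGroup.of_bot
  | n + 1 => by
    by_cases hn : 7 ≤ n
    · have := isPGroup_tailGroup n
      rwa [show 7 - (n + 1) = 7 - n by omega]
    obtain ⟨i, hi⟩ : ∃ i, i = 7 - (n + 1) := ⟨_, rfl⟩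
    have hi7 : i < 7 := by omega
    have ih := isPGroup_tailGroup n
    rw [show 7 - n = i + 1 by omega] at ih
    rw [← hi]
    have hsplit : tailGroup i = Subgroup.zpowers (seqAt i) ⊔ tailGroup (i + 1) := by
      rw [tailGroup, tailGroup, Subgroup.zpowers_eq_closure, ← Subgroup.closure_union]
      congr 1
      ext s
      constructor
      · rintro ⟨j, h1, h2, rfl⟩
        rcases Nat.lt_or_eq_of_le h1 with h | h
        · exact Or.inr ⟨j, h, h2, rfl⟩
        · exact Or.inl (by rw [← h]; rfl)
      · rintro (h | ⟨j, h1, h2, rfl⟩)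
        · exact ⟨i, le_rfl, hi7, h⟩
        · exact ⟨j, by omega, h2, rfl⟩
    rw [hsplit]
    have hcube : seqAt i * seqAt i * seqAt i = 1 := seq_cube ⟨i, hi7⟩
    have hinv : (seqAt i)⁻¹ = seqAt i * seqAt i :=
      inv_eq_of_mul_eq_one_left hcube
    have hz : IsPGroup 3 (Subgroup.zpowers (seqAt i)) := by
      have h3 : orderOf (seqAt i) ∣ 3 := orderOf_dvd_of_pow_eq_one (by rw [pow_succ, pow_two, hcube])
      obtain ⟨k, -, hk⟩ := (Nat.dvd_prime_pow Nat.prime_three).1 (by rwa [pow_one] :
        orderOf (seqAt i) ∣ 3 ^ 1)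
      exact IsPGroup.of_card (n := k) (by rw [Nat.card_zpowers, hk])
    refine hz.to_sup_of_normal_right' ih ?_
    rw [Subgroup.zpowers_le, Subgroup.mem_normalizer_iff]
    have key : ∀ y ∈ tailGroup (i + 1), seqAt i * y * (seqAt i)⁻¹ ∈ tailGroup (i + 1) := by
      intro y hy
      induction hy using Subgroup.closure_induction with
      | mem s hs =>
        obtain ⟨j, h1, h2, rfl⟩ := hs
        obtain ⟨he, hr⟩ := seq_conj ⟨i, hi7⟩ ⟨j, h2⟩ (by show i < j; omega)
        rw [hinv, ← mul_assoc, he]
        simp only at hr ⊢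
        generalize (rels.getD i []).getD (j - (i + 1)) [] = w at hr ⊢
        induction w with
        | nil => exact one_mem _
        | cons k w ihw =>
          simp only [List.all_cons, Bool.and_eq_true, Nat.blt_eq] at hr
          exact mul_mem (Subgroup.subset_closure ⟨i + 1 + k, by omega, hr.1, rfl⟩) (ihw hr.2)
      | one => simp
      | mul a b _ _ ha hb =>
        convert mul_mem ha hb using 1
        group
      | inv a _ ha =>
        convert inv_mem ha using 1
        group
    intro y
    refine ⟨key y, fun h => ?_⟩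
    have := key _ (key _ h)
    have hy : seqAt i * (seqAt i * (seqAt i * y * (seqAt i)⁻¹) * (seqAt i)⁻¹) * (seqAt i)⁻¹ = y := by
      calc _ = (seqAt i * seqAt i * seqAt i) * y * (seqAt i * seqAt i * seqAt i)⁻¹ := by group
        _ = y := by rw [hcube]; simp
    rwa [hy] at this

theorem trans_mem (k : Fin 3) : trans k.1 ∈ tailGroup 0 :=
  Subgroup.subset_closure ⟨k.1, Nat.zero_le _, by omega, (seq_first k).symm⟩

theorem isPGroup_translations : IsPGroup 3 (tailGroup 0) := isPGroup_tailGroup 7

/-! ### The lemma -/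

section

variable {G : Type*} [Group G] [Finite G] (D : Set G) (hconj : ∀ d ∈ D, ∀ e ∈ D, d * e * d ∈ D)
  (hbraid : ∀ d ∈ D, ∀ e ∈ D, d * e * d = e * d * e) (hsq : ∀ d ∈ D, d * d = 1)

include hconj hbraid hsq in
theorem isPGroup_four {a b c d : G} (ha : a ∈ D) (hb : b ∈ D) (hc : c ∈ D) (hd : d ∈ D) :
    IsPGroup 3 (Subgroup.closure ({a * b, a * c, a * d} : Set G)) := by
  let x : ℕ → G := fun k => match k with | 0 => a | 1 => b | 2 => c | _ => d
  have hx : ∀ g, x g ∈ D := fun g => by
    match g with
    | 0 => exact ha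
    | 1 => exact hb
    | 2 => exact hc
    | _ + 3 => exact hd
  let Γ : Subgroup (Equiv.Perm (Fin 81) × G) :=
    { carrier := {p | ∀ i : Fin 81, p.2 * phi x i * p.2⁻¹ = phi x (p.1 i)}
      one_mem' := fun i => by simp
      mul_mem' := by
        intro p q hp hq i
        show p.2 * q.2 * phi x i * (p.2 * q.2)⁻¹ = _
        rw [show p.2 * q.2 * phi x i * (p.2 * q.2)⁻¹ = p.2 * (q.2 * phi x i * q.2⁻¹) * p.2⁻¹ by group,
          hq i, hp]
        rfl
      inv_mem' := by
        intro p hp i
        show p.2⁻¹ * phi x i * p.2⁻¹⁻¹ = _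
        have := hp (p.1⁻¹ i)
        rw [show p.1 (p.1⁻¹ i) = i from Equiv.apply_symm_apply _ _] at this
        rw [← this]
        show _ = phi x ((p.1⁻¹ : Equiv.Perm (Fin 81)) i)
        group }
  have hgen : ∀ g : Fin 4, (tau g, x g) ∈ Γ := by
    intro g i
    show x g * phi x i * (x g)⁻¹ = _
    rw [inv_eq_of_mul_eq_one_left (hsq _ (hx g))]
    exact table_spec D hconj hbraid hsq hx g.2 i.2
  have hmem : ∀ y ∈ Subgroup.closure ({a * b, a * c, a * d} : Set G),
      ∃ s ∈ tailGroup 0, (s, y) ∈ Γ := by
    intro y hy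
    induction hy using Subgroup.closure_induction with
    | mem y hy =>
      rcases hy with rfl | rfl | rfl
      · exact ⟨_, trans_mem 0, mul_mem (hgen 0) (hgen 1)⟩
      · exact ⟨_, trans_mem 1, mul_mem (hgen 0) (hgen 2)⟩
      · exact ⟨_, trans_mem 2, mul_mem (hgen 0) (hgen 3)⟩
    | one => exact ⟨1, one_mem _, one_mem Γ⟩
    | mul y z _ _ hy hz =>
      obtain ⟨s, hs, h⟩ := hy
      obtain ⟨t, ht, h'⟩ := hz
      exact ⟨s * t, mul_mem hs ht, mul_mem h h'⟩
    | inv y _ hy =>
      obtain ⟨s, hs, h⟩ := hy
      exact ⟨s⁻¹, inv_mem hs, inv_mem h⟩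
  obtain ⟨N, hN⟩ : ∃ N, N = Subgroup.closure ({a * b, a * c, a * d} : Set G) := ⟨_, rfl⟩
  rw [← hN] at hmem ⊢
  have hcentral : ∀ z : G, (∀ i : Fin 81, z * phi x i * z⁻¹ = phi x i) → ∀ y ∈ N, z * y = y * z := by
    intro z hz y hy
    have hg : ∀ g : Fin 4, z * x g = x g * z := fun g => by
      have h := hz ⟨g.1, by omega⟩
      have e : phi x g.1 = x g.1 := by simp [phi, start_ok g.1 g.2, conjW]
      rw [show ((⟨g.1, by omega⟩ : Fin 81) : ℕ) = g.1 from rfl, e] at h
      exact mul_inv_eq_iff_eq_mul.1 h
    have hle : N ≤ Subgroup.centralizer ({z} : Set G) := by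
      rw [hN, Subgroup.closure_le]
      rintro y (rfl | rfl | rfl) <;> refine mul_mem ?_ ?_ <;>
        rw [Subgroup.mem_centralizer_singleton_iff]
      · exact (hg 0).symm
      · exact (hg 1).symm
      · exact (hg 0).symm
      · exact (hg 2).symm
      · exact (hg 0).symm
      · exact (hg 3).symm
    exact (Subgroup.mem_centralizer_singleton_iff.1 (hle hy)).symm
  have hq : IsPGroup 3 (↥N ⧸ Subgroup.center ↥N) := by
    intro q
    induction q using QuotientGroup.induction_on with
    | H y =>
      obtain ⟨s, hs, h⟩ := hmem y y.2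
      obtain ⟨k, hk⟩ := isPGroup_translations ⟨s, hs⟩
      have hk' : s ^ 3 ^ k = 1 := by simpa [Subtype.ext_iff] using hk
      refine ⟨k, ?_⟩
      rw [← QuotientGroup.mk_pow, QuotientGroup.eq_one_iff, Subgroup.mem_center_iff]
      intro z
      have hpow := pow_mem h (3 ^ k)
      rw [Prod.pow_mk, hk'] at hpow
      exact Subtype.ext (hcentral _ (fun i => hpow i) z z.2).symm
  haveI : Fact (Nat.Prime 3) := ⟨Nat.prime_three⟩
  haveI hnilq : Group.IsNilpotent (↥N ⧸ Subgroup.center ↥N) := hq.isNilpotent
  haveI hnil : Group.IsNilpotent ↥N :=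
    Subgroup.isNilpotent_of_ker_le_center (QuotientGroup.mk' (Subgroup.center ↥N)) (by simp)
  obtain ⟨P⟩ : Nonempty (Sylow 3 ↥N) := inferInstance
  have htop : (P : Subgroup ↥N) = ⊤ := by
    rw [eq_top_iff]
    have hcl : Subgroup.closure (N.subtype ⁻¹' ({a * b, a * c, a * d} : Set G)) = ⊤ := by
      subst hN
      exact Subgroup.closure_closure_coe_preimage
    rw [← hcl, Subgroup.closure_le]
    intro y hy
    have hcube : y ^ 3 = 1 := by
      apply Subtype.ext
      rw [SubmonoidClass.coe_pow, OneMemClass.coe_one]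
      have cube : ∀ e ∈ D, (a * e) ^ 3 = 1 := fun e he => by
        rw [pow_succ, pow_two, show a * e * (a * e) * (a * e) = (a * e * a) * (e * a * e) by group,
          ← hbraid a ha e he, show a * e * a * (a * e * a) = a * e * (a * a) * e * a by group,
          hsq a ha, mul_one, mul_assoc a e e, hsq e he, mul_one, hsq a ha]
      rcases hy with h | h | h <;> rw [show ((y : G)) = _ from h]
      · exact cube b hb
      · exact cube c hc
      · exact cube d hd
    have hz : IsPGroup 3 (Subgroup.zpowers y) := by
      obtain ⟨k, -, hk⟩ := (Nat.dvd_prime_pow Nat.prime_three).1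
        ((by rw [pow_one]; exact orderOf_dvd_of_pow_eq_one hcube : orderOf y ∣ 3 ^ 1))
      exact IsPGroup.of_card (n := k) (by rw [Nat.card_zpowers, hk])
    obtain ⟨Q, hQ⟩ := hz.exists_le_sylow
    haveI := Sylow.unique_of_normal P inferInstance
    rw [Subsingleton.elim P Q]
    exact hQ (Subgroup.mem_zpowers y)
  exact (htop ▸ P.isPGroup').of_equiv Subgroup.topEquiv

include hbraid hsq in
/-- The width one lemma. -/
theorem exists_normal_three (hc : ∀ g : G, ∀ d ∈ D, g * d * g⁻¹ ∈ D) {a b : G} (ha : a ∈ D) (hb : b ∈ D) :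
    ∃ N : Subgroup G, N.Normal ∧ IsPGroup 3 N ∧ a * b ∈ N := by
  have hinv : ∀ d ∈ D, d⁻¹ = d := fun d hd => inv_eq_of_mul_eq_one_left (hsq d hd)
  have hconj : ∀ d ∈ D, ∀ e ∈ D, d * e * d ∈ D := fun d hd e he => by
    have := hc d e he; rwa [hinv d hd] at this
  haveI : Fact (Nat.Prime 3) := ⟨Nat.prime_three⟩
  have h0 := isPGroup_four D hconj hbraid hsq ha hb ha ha
  refine Cfsg.Agent.Lib.Involutions.BaerSuzuki.baer_suzuki_elem (x := a * b)
    (h0.to_le ?_) fun g => ?_
  · exact Subgroup.zpowers_le.2 (Subgroup.subset_closure (Or.inl rfl))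
  · have h4 := isPGroup_four D hconj hbraid hsq ha hb (hc g a ha) (hc g b hb)
    refine h4.to_le ?_
    rw [Subgroup.closure_le]
    rintro y (rfl | rfl)
    · exact Subgroup.subset_closure (Or.inl rfl)
    · rw [show g * (a * b) * g⁻¹ = g * (a⁻¹ * b) * g⁻¹ by rw [hinv a ha],
        show g * (a⁻¹ * b) * g⁻¹ = (a * (g * a * g⁻¹))⁻¹ * (a * (g * b * g⁻¹)) by group]
      exact mul_mem (inv_mem (Subgroup.subset_closure (Or.inr (Or.inl rfl))))
        (Subgroup.subset_closure (Or.inr (Or.inr rfl)))

end

end Cfsg.Agent.Lib.RankThree.Width
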